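import Mathlib

set_option linter.unusedSectionVars false
set_option linter.unusedVariables false
set_option linter.unusedSimpArgs false
set_option autoImplicit false
set_option linter.style.haveILetI false
set_option maxHeartbeats 400000

noncomputable section

namespace Groth.Agent.Lib.Helper6.TensH1

open CategoryTheory MonoidalCategory HomologicalComplex

universe v

variable {R : Type v} [CommRing R] (K L : ChainComplex (ModuleCat.{v} R) ℕ)

/-- inclusion of a summand -/
abbrev ι (p q n : ℕ) (h : p + q = n) : K.X p ⊗ L.X q ⟶ (K ⊗ L).X n :=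
  HomologicalComplex.ιTensorObj K L p q n h

/-- projection to a summand -/
def pr (p q n : ℕ) (h : p + q = n) : (K ⊗ L).X n ⟶ K.X p ⊗ L.X q :=
  mapBifunctorDesc (K₁ := K) (K₂ := L) (F := curriedTensor (ModuleCat.{v} R))
    (c := ComplexShape.down ℕ) (j := n)
    (fun p' q' _ => if h' : p' = p ∧ q' = q then eqToHom (by rw [h'.1, h'.2]; rfl) else 0)

theorem ι_pr_self (p q n : ℕ) (h : p + q = n) : ι K L p q n h ≫ pr K L p q n h = 𝟙 _ := by
  unfold pr ι
  rw [ι_mapBifunctorDesc]
  simp

theorem ι_pr_ne (p q p' q' n : ℕ) (h : p + q = n) (h' : p' + q' = n)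
    (hne : ¬ (p' = p ∧ q' = q)) : ι K L p' q' n h' ≫ pr K L p q n h = 0 := by
  unfold pr ι
  rw [ι_mapBifunctorDesc]
  rw [dif_neg hne]

theorem ι_injective (p q n : ℕ) (h : p + q = n) : Function.Injective (ι K L p q n h).hom := by
  intro x y hxy
  have := congrArg (pr K L p q n h).hom hxy
  have h1 : ∀ z, (pr K L p q n h).hom ((ι K L p q n h).hom z) = z := fun z => by
    have := ι_pr_self K L p q n h
    exact congrArg (fun f => f.hom z) this
  rwa [h1, h1] at this

end Groth.Agent.Lib.Helper6.TensH1
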