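import Groth.Agent.Lib.Helper6.TensH1.Diff

set_option linter.unusedSectionVars false
set_option linter.unusedVariables false
set_option linter.unusedSimpArgs false
set_option autoImplicit false
set_option linter.style.haveILetI false
set_option maxHeartbeats 400000

noncomputable section

namespace Groth.Agent.Lib.Helper6.TensH1

open CategoryTheory MonoidalCategory HomologicalComplex

universe v

variable {R : Type v} [CommRing R] (K L : ChainComplex (ModuleCat.{v} R) ℕ)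

theorem ι_whiskerLeft {L' : ChainComplex (ModuleCat.{v} R) ℕ} (g : L ⟶ L') (p q n : ℕ)
    (h : p + q = n) :
    ι K L p q n h ≫ (K ◁ g).f n = (K.X p ◁ g.f q) ≫ ι K L' p q n h := by
  change ιMapBifunctor K L (curriedTensor (ModuleCat.{v} R)) (ComplexShape.down ℕ) p q n h ≫
    (mapBifunctorMap (𝟙 K) g (curriedTensor (ModuleCat.{v} R)) (ComplexShape.down ℕ)).f n = _
  rw [ι_mapBifunctorMap]
  simp

theorem id_eq_0 : 𝟙 ((K ⊗ L).X 0) = pr K L 0 0 0 rfl ≫ ι K L 0 0 0 rfl := by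
  apply mapBifunctor.hom_ext
  intro i₁ i₂ h
  have h' : i₁ + i₂ = 0 := h
  obtain ⟨rfl, rfl⟩ : i₁ = 0 ∧ i₂ = 0 := by omega
  change ι K L 0 0 0 rfl ≫ 𝟙 _ = ι K L 0 0 0 rfl ≫ pr K L 0 0 0 rfl ≫ ι K L 0 0 0 rfl
  rw [Category.comp_id, ← Category.assoc, ι_pr_self, Category.id_comp]

theorem id_eq_1 : 𝟙 ((K ⊗ L).X 1) =
    pr K L 1 0 1 rfl ≫ ι K L 1 0 1 rfl + pr K L 0 1 1 rfl ≫ ι K L 0 1 1 rfl := by
  apply mapBifunctor.hom_ext
  intro i₁ i₂ h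
  have h' : i₁ + i₂ = 1 := h
  obtain ⟨rfl, rfl⟩ | ⟨rfl, rfl⟩ : (i₁ = 1 ∧ i₂ = 0) ∨ (i₁ = 0 ∧ i₂ = 1) := by omega
  · change ι K L 1 0 1 rfl ≫ 𝟙 _ = ι K L 1 0 1 rfl ≫
      (pr K L 1 0 1 rfl ≫ ι K L 1 0 1 rfl + pr K L 0 1 1 rfl ≫ ι K L 0 1 1 rfl)
    rw [Category.comp_id, Preadditive.comp_add, ← Category.assoc, ← Category.assoc, ι_pr_self,
      ι_pr_ne K L 0 1 1 0 1 rfl rfl (by omega), Category.id_comp, Limits.zero_comp]
    exact (add_zero _).symm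
  · change ι K L 0 1 1 rfl ≫ 𝟙 _ = ι K L 0 1 1 rfl ≫
      (pr K L 1 0 1 rfl ≫ ι K L 1 0 1 rfl + pr K L 0 1 1 rfl ≫ ι K L 0 1 1 rfl)
    rw [Category.comp_id, Preadditive.comp_add, ← Category.assoc, ← Category.assoc, ι_pr_self,
      ι_pr_ne K L 1 0 0 1 1 rfl rfl (by omega), Category.id_comp, Limits.zero_comp]
    exact (zero_add _).symm

theorem id_eq_2 : 𝟙 ((K ⊗ L).X 2) =
    pr K L 2 0 2 rfl ≫ ι K L 2 0 2 rfl + pr K L 1 1 2 rfl ≫ ι K L 1 1 2 rfl +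
      pr K L 0 2 2 rfl ≫ ι K L 0 2 2 rfl := by
  apply mapBifunctor.hom_ext
  intro i₁ i₂ h
  have h' : i₁ + i₂ = 2 := h
  obtain ⟨rfl, rfl⟩ | ⟨rfl, rfl⟩ | ⟨rfl, rfl⟩ :
    (i₁ = 2 ∧ i₂ = 0) ∨ (i₁ = 1 ∧ i₂ = 1) ∨ (i₁ = 0 ∧ i₂ = 2) := by omega
  · change ι K L 2 0 2 rfl ≫ 𝟙 _ = ι K L 2 0 2 rfl ≫
      (pr K L 2 0 2 rfl ≫ ι K L 2 0 2 rfl + pr K L 1 1 2 rfl ≫ ι K L 1 1 2 rfl +
        pr K L 0 2 2 rfl ≫ ι K L 0 2 2 rfl)
    rw [Category.comp_id, Preadditive.comp_add, Preadditive.comp_add, ← Category.assoc,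
      ← Category.assoc, ← Category.assoc, ι_pr_self,
      ι_pr_ne K L 1 1 2 0 2 rfl rfl (by omega), ι_pr_ne K L 0 2 2 0 2 rfl rfl (by omega),
      Category.id_comp, Limits.zero_comp, Limits.zero_comp]
    exact ((add_zero _).trans (add_zero _)).symm
  · change ι K L 1 1 2 rfl ≫ 𝟙 _ = ι K L 1 1 2 rfl ≫
      (pr K L 2 0 2 rfl ≫ ι K L 2 0 2 rfl + pr K L 1 1 2 rfl ≫ ι K L 1 1 2 rfl +
        pr K L 0 2 2 rfl ≫ ι K L 0 2 2 rfl)
    rw [Category.comp_id, Preadditive.comp_add, Preadditive.comp_add, ← Category.assoc,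
      ← Category.assoc, ← Category.assoc, ι_pr_self,
      ι_pr_ne K L 2 0 1 1 2 rfl rfl (by omega), ι_pr_ne K L 0 2 1 1 2 rfl rfl (by omega),
      Category.id_comp, Limits.zero_comp, Limits.zero_comp]
    exact ((add_zero _).trans (zero_add _)).symm
  · change ι K L 0 2 2 rfl ≫ 𝟙 _ = ι K L 0 2 2 rfl ≫
      (pr K L 2 0 2 rfl ≫ ι K L 2 0 2 rfl + pr K L 1 1 2 rfl ≫ ι K L 1 1 2 rfl +
        pr K L 0 2 2 rfl ≫ ι K L 0 2 2 rfl)
    rw [Category.comp_id, Preadditive.comp_add, Preadditive.comp_add, ← Category.assoc,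
      ← Category.assoc, ← Category.assoc, ι_pr_self,
      ι_pr_ne K L 2 0 0 2 2 rfl rfl (by omega), ι_pr_ne K L 1 1 0 2 2 rfl rfl (by omega),
      Category.id_comp, Limits.zero_comp, Limits.zero_comp]
    exact ((congrArg (· + _) (zero_add _)).trans (zero_add _)).symm

theorem exists_decomp_0 (x : (K ⊗ L).X 0) : ∃ a, x = (ι K L 0 0 0 rfl).hom a :=
  ⟨(pr K L 0 0 0 rfl).hom x, congrArg (fun f => f.hom x) (id_eq_0 K L)⟩

theorem exists_decomp_1 (x : (K ⊗ L).X 1) :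
    ∃ a b, x = (ι K L 1 0 1 rfl).hom a + (ι K L 0 1 1 rfl).hom b :=
  ⟨(pr K L 1 0 1 rfl).hom x, (pr K L 0 1 1 rfl).hom x,
    congrArg (fun f => f.hom x) (id_eq_1 K L)⟩

theorem exists_decomp_2 (x : (K ⊗ L).X 2) :
    ∃ a b c, x = (ι K L 2 0 2 rfl).hom a + (ι K L 1 1 2 rfl).hom b + (ι K L 0 2 2 rfl).hom c :=
  ⟨(pr K L 2 0 2 rfl).hom x, (pr K L 1 1 2 rfl).hom x, (pr K L 0 2 2 rfl).hom x,
    congrArg (fun f => f.hom x) (id_eq_2 K L)⟩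

end Groth.Agent.Lib.Helper6.TensH1
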