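import Groth.Agent.Lib.Helper6.TensH1.Basic

set_option linter.unusedSectionVars false
set_option linter.unusedVariables false
set_option linter.unusedSimpArgs false
set_option autoImplicit false
set_option linter.style.haveILetI false
set_option maxHeartbeats 400000

noncomputable section

namespace Groth.Agent.Lib.Helper6.TensH1

open CategoryTheory MonoidalCategory HomologicalComplex

universe v

variable {R : Type v} [CommRing R] (K L : ChainComplex (ModuleCat.{v} R) ℕ)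

theorem ι_d (p q n n' : ℕ) (h : p + q = n) : ι K L p q n h ≫ (K ⊗ L).d n n' =
    mapBifunctor.d₁ K L (curriedTensor (ModuleCat.{v} R)) (ComplexShape.down ℕ) p q n' +
    mapBifunctor.d₂ K L (curriedTensor (ModuleCat.{v} R)) (ComplexShape.down ℕ) p q n' := by
  change ιMapBifunctor K L (curriedTensor (ModuleCat.{v} R)) (ComplexShape.down ℕ) p q n h ≫
    (mapBifunctor K L (curriedTensor (ModuleCat.{v} R)) (ComplexShape.down ℕ)).d n n' = _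
  rw [mapBifunctor.d_eq, Preadditive.comp_add, mapBifunctor.ι_D₁, mapBifunctor.ι_D₂]

theorem ι_d_10 : ι K L 1 0 1 rfl ≫ (K ⊗ L).d 1 0 = (K.d 1 0 ▷ L.X 0) ≫ ι K L 0 0 0 rfl := by
  rw [ι_d, mapBifunctor.d₂_eq_zero _ _ _ _ _ _ _ (by simp),
    mapBifunctor.d₁_eq K L _ _ (show (ComplexShape.down ℕ).Rel 1 0 by simp) 0 0 rfl, add_zero]
  simp

theorem ι_d_01 : ι K L 0 1 1 rfl ≫ (K ⊗ L).d 1 0 = (K.X 0 ◁ L.d 1 0) ≫ ι K L 0 0 0 rfl := by
  rw [ι_d, mapBifunctor.d₁_eq_zero _ _ _ _ _ _ _ (by simp),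
    mapBifunctor.d₂_eq K L _ _ 0 (show (ComplexShape.down ℕ).Rel 1 0 by simp) 0 rfl, zero_add]
  simp

theorem ι_d_20 : ι K L 2 0 2 rfl ≫ (K ⊗ L).d 2 1 = (K.d 2 1 ▷ L.X 0) ≫ ι K L 1 0 1 rfl := by
  rw [ι_d, mapBifunctor.d₂_eq_zero _ _ _ _ _ _ _ (by simp),
    mapBifunctor.d₁_eq K L _ _ (show (ComplexShape.down ℕ).Rel 2 1 by simp) 0 1 rfl, add_zero]
  simp

theorem ι_d_02 : ι K L 0 2 2 rfl ≫ (K ⊗ L).d 2 1 = (K.X 0 ◁ L.d 2 1) ≫ ι K L 0 1 1 rfl := by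
  rw [ι_d, mapBifunctor.d₁_eq_zero _ _ _ _ _ _ _ (by simp),
    mapBifunctor.d₂_eq K L _ _ 0 (show (ComplexShape.down ℕ).Rel 2 1 by simp) 1 rfl, zero_add]
  simp

theorem ι_d_11 : ι K L 1 1 2 rfl ≫ (K ⊗ L).d 2 1 =
    (K.d 1 0 ▷ L.X 1) ≫ ι K L 0 1 1 rfl - (K.X 1 ◁ L.d 1 0) ≫ ι K L 1 0 1 rfl := by
  rw [ι_d, mapBifunctor.d₁_eq K L _ _ (show (ComplexShape.down ℕ).Rel 1 0 by simp) 1 1 rfl,
    mapBifunctor.d₂_eq K L _ _ 1 (show (ComplexShape.down ℕ).Rel 1 0 by simp) 1 rfl]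
  simp [sub_eq_add_neg]

end Groth.Agent.Lib.Helper6.TensH1
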