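import Groth.Agent.Lib.Helper6.TensH1.Decomp

set_option linter.unusedSectionVars false
set_option linter.unusedVariables false
set_option linter.unusedSimpArgs false
set_option autoImplicit false
set_option linter.style.haveILetI false
set_option maxHeartbeats 400000

noncomputable section

namespace Groth.Agent.Lib.Helper6.TensH1

open CategoryTheory MonoidalCategory HomologicalComplex TensorProduct

universe v

variable {R : Type v} [CommRing R] (K L : ChainComplex (ModuleCat.{v} R) ℕ)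

theorem comp_apply' {M N Q : ModuleCat.{v} R} (f : M ⟶ N) (g : N ⟶ Q) (h : M ⟶ Q)
    (e : f ≫ g = h) (t : M) : g.hom (f.hom t) = h.hom t := by
  rw [← e]; rfl

theorem d_ι10 (a : (K.X 1 ⊗ L.X 0 : ModuleCat.{v} R)) :
    ((K ⊗ L).d 1 0).hom ((ι K L 1 0 1 rfl).hom a) =
      (ι K L 0 0 0 rfl).hom (LinearMap.rTensor (L.X 0) (K.d 1 0).hom a) :=
  comp_apply' _ _ _ (ι_d_10 K L) a

theorem d_ι01 (b : (K.X 0 ⊗ L.X 1 : ModuleCat.{v} R)) :
    ((K ⊗ L).d 1 0).hom ((ι K L 0 1 1 rfl).hom b) =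
      (ι K L 0 0 0 rfl).hom (LinearMap.lTensor (K.X 0) (L.d 1 0).hom b) :=
  comp_apply' _ _ _ (ι_d_01 K L) b

theorem d_ι20 (a : (K.X 2 ⊗ L.X 0 : ModuleCat.{v} R)) :
    ((K ⊗ L).d 2 1).hom ((ι K L 2 0 2 rfl).hom a) =
      (ι K L 1 0 1 rfl).hom (LinearMap.rTensor (L.X 0) (K.d 2 1).hom a) :=
  comp_apply' _ _ _ (ι_d_20 K L) a

theorem d_ι02 (c : (K.X 0 ⊗ L.X 2 : ModuleCat.{v} R)) :
    ((K ⊗ L).d 2 1).hom ((ι K L 0 2 2 rfl).hom c) =
      (ι K L 0 1 1 rfl).hom (LinearMap.lTensor (K.X 0) (L.d 2 1).hom c) :=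
  comp_apply' _ _ _ (ι_d_02 K L) c

theorem d_ι11 (b : (K.X 1 ⊗ L.X 1 : ModuleCat.{v} R)) :
    ((K ⊗ L).d 2 1).hom ((ι K L 1 1 2 rfl).hom b) =
      (ι K L 0 1 1 rfl).hom (LinearMap.rTensor (L.X 1) (K.d 1 0).hom b) -
      (ι K L 1 0 1 rfl).hom (LinearMap.lTensor (K.X 1) (L.d 1 0).hom b) :=
  comp_apply' _ _ _ (ι_d_11 K L) b

theorem whiskerLeft_ι {L' : ChainComplex (ModuleCat.{v} R) ℕ} (g : L ⟶ L') (p q n : ℕ)
    (h : p + q = n) (t : (K.X p ⊗ L.X q : ModuleCat.{v} R)) :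
    ((K ◁ g).f n).hom ((ι K L p q n h).hom t) =
      (ι K L' p q n h).hom (LinearMap.lTensor (K.X p) (g.f q).hom t) :=
  comp_apply' _ _ _ (ι_whiskerLeft K L g p q n h) t

end Groth.Agent.Lib.Helper6.TensH1
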