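import Mathlib

set_option linter.unusedSectionVars false
set_option linter.unusedVariables false
set_option linter.unusedSimpArgs false
set_option autoImplicit false
set_option linter.style.haveILetI false
set_option maxHeartbeats 400000

noncomputable section

namespace Groth.Agent.Lib.Helper6.TensH1

open CategoryTheory CategoryTheory.Limits

universe v

variable {R : Type v} [CommRing R] {ι' : Type*} {c : ComplexShape ι'}
  (P : HomologicalComplex (ModuleCat.{v} R) c)

theorem iCycles_injective (n : ι') : Function.Injective (P.iCycles n).hom :=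
  (ModuleCat.mono_iff_injective _).1 inferInstance

theorem homologyπ_surjective (n : ι') : Function.Surjective (P.homologyπ n).hom :=
  (ModuleCat.epi_iff_surjective _).1 inferInstance

theorem toCycles_i_apply (i j : ι') (x : P.X i) :
    (P.iCycles j).hom ((P.toCycles i j).hom x) = (P.d i j).hom x := by
  have := P.toCycles_i i j
  exact congrArg (fun f => f.hom x) this

theorem range_iCycles_eq_ker_d (j k : ι') (hk : c.next j = k) :
    LinearMap.range (P.iCycles j).hom = LinearMap.ker (P.d j k).hom := by
  have hlim := P.cyclesIsKernel j k hk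
  have hex : (ShortComplex.mk (P.iCycles j) (P.d j k) (P.iCycles_d j k)).Exact :=
    ShortComplex.exact_of_f_is_kernel _ hlim
  exact hex.moduleCat_range_eq_ker

theorem range_toCycles_eq_ker_homologyπ (i j : ι') (hi : c.prev j = i) :
    LinearMap.range (P.toCycles i j).hom = LinearMap.ker (P.homologyπ j).hom := by
  have hcolim := P.homologyIsCokernel i j hi
  have hex : (ShortComplex.mk (P.toCycles i j) (P.homologyπ j)
      (P.toCycles_comp_homologyπ i j)).Exact :=
    ShortComplex.exact_of_g_is_cokernel _ hcolim
  exact hex.moduleCat_range_eq_ker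

variable {P} {Q : HomologicalComplex (ModuleCat.{v} R) c} (f : P ⟶ Q)

theorem cyclesMap_i_apply (n : ι') (x : P.cycles n) :
    (Q.iCycles n).hom ((HomologicalComplex.cyclesMap f n).hom x) =
      (f.f n).hom ((P.iCycles n).hom x) := by
  have := HomologicalComplex.cyclesMap_i f n
  exact congrArg (fun g => g.hom x) this

theorem homologyπ_naturality_apply (n : ι') (x : P.cycles n) :
    (Q.homologyπ n).hom ((HomologicalComplex.cyclesMap f n).hom x) =
      (HomologicalComplex.homologyMap f n).hom ((P.homologyπ n).hom x) := by
  have := HomologicalComplex.homologyπ_naturality f n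
  exact (congrArg (fun g => g.hom x) this).symm

/-- Elementwise criterion for `homologyMap f j` to be an isomorphism. -/
theorem isIso_homologyMap_of_elementwise (i j k : ι') (hi : c.prev j = i) (hk : c.next j = k)
    (hS : ∀ z : Q.X j, (Q.d j k).hom z = 0 → ∃ x : P.X j, (P.d j k).hom x = 0 ∧ (f.f j).hom x = z)
    (hI : ∀ x : P.X j, (P.d j k).hom x = 0 → ∀ c' : Q.X i, (Q.d i j).hom c' = (f.f j).hom x →
      ∃ u : P.X i, (P.d i j).hom u = x) :
    IsIso (HomologicalComplex.homologyMap f j) := by
  rw [ConcreteCategory.isIso_iff_bijective]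
  constructor
  · -- injective
    rw [← LinearMap.ker_eq_bot (f := (HomologicalComplex.homologyMap f j).hom),
      LinearMap.ker_eq_bot']
    intro y hy
    obtain ⟨x', rfl⟩ := homologyπ_surjective P j y
    rw [← homologyπ_naturality_apply] at hy
    have h1 : (HomologicalComplex.cyclesMap f j).hom x' ∈ LinearMap.ker (Q.homologyπ j).hom := hy
    rw [← range_toCycles_eq_ker_homologyπ Q i j hi] at h1
    obtain ⟨c', hc'⟩ := h1
    have h2 : (Q.d i j).hom c' = (f.f j).hom ((P.iCycles j).hom x') := by
      rw [← toCycles_i_apply, hc', cyclesMap_i_apply]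
    have h3 : (P.d j k).hom ((P.iCycles j).hom x') = 0 := by
      have : (P.iCycles j).hom x' ∈ LinearMap.range (P.iCycles j).hom := ⟨x', rfl⟩
      rw [range_iCycles_eq_ker_d P j k hk] at this
      exact this
    obtain ⟨u, hu⟩ := hI _ h3 c' h2
    have h4 : (P.toCycles i j).hom u = x' := by
      apply iCycles_injective P j
      rw [toCycles_i_apply, hu]
    have h5 : x' ∈ LinearMap.ker (P.homologyπ j).hom := by
      rw [← range_toCycles_eq_ker_homologyπ P i j hi]
      exact ⟨u, h4⟩
    exact h5
  · -- surjective
    intro y
    obtain ⟨z', rfl⟩ := homologyπ_surjective Q j y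
    have h1 : (Q.d j k).hom ((Q.iCycles j).hom z') = 0 := by
      have : (Q.iCycles j).hom z' ∈ LinearMap.range (Q.iCycles j).hom := ⟨z', rfl⟩
      rw [range_iCycles_eq_ker_d Q j k hk] at this
      exact this
    obtain ⟨x, hx0, hxz⟩ := hS _ h1
    have h2 : x ∈ LinearMap.range (P.iCycles j).hom := by
      rw [range_iCycles_eq_ker_d P j k hk]
      exact hx0
    obtain ⟨x', rfl⟩ := h2
    refine ⟨(P.homologyπ j).hom x', ?_⟩
    change (HomologicalComplex.homologyMap f j).hom ((P.homologyπ j).hom x') = _
    rw [← homologyπ_naturality_apply]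
    congr 1
    apply iCycles_injective Q j
    rw [cyclesMap_i_apply, hxz]

end Groth.Agent.Lib.Helper6.TensH1
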