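import Mathlib

set_option linter.unusedSectionVars false
set_option linter.unusedVariables false
set_option linter.unusedSimpArgs false
set_option autoImplicit false
set_option linter.style.haveILetI false
set_option maxHeartbeats 400000

noncomputable section

namespace Groth.Agent.Lib.Helper6.TensH1

open TensorProduct

variable {R : Type*} [CommRing R]
  {C2 C1 C0 P2 P1 P0 G : Type*}
  [AddCommGroup C2] [Module R C2] [AddCommGroup C1] [Module R C1] [AddCommGroup C0] [Module R C0]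
  [AddCommGroup P2] [Module R P2] [AddCommGroup P1] [Module R P1] [AddCommGroup P0] [Module R P0]
  [AddCommGroup G] [Module R G]
  (dC21 : C2 →ₗ[R] C1) (dC10 : C1 →ₗ[R] C0) (hC : ∀ x, dC10 (dC21 x) = 0)
  (dP21 : P2 →ₗ[R] P1) (dP10 : P1 →ₗ[R] P0) (π0 : P0 →ₗ[R] G)
  (hP1 : Function.Exact dP21 dP10) (hP0 : Function.Exact dP10 π0) (hπ : Function.Surjective π0)

theorem rl_comm {A A' B B' : Type*} [AddCommGroup A] [Module R A] [AddCommGroup A'] [Module R A']
    [AddCommGroup B] [Module R B] [AddCommGroup B'] [Module R B']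
    (f : A →ₗ[R] A') (g : B →ₗ[R] B') (t : A ⊗[R] B) :
    LinearMap.rTensor B' f (LinearMap.lTensor A g t) =
      LinearMap.lTensor A' g (LinearMap.rTensor B f t) := by
  have := LinearMap.rTensor_comp_lTensor _ f g
  have h2 := LinearMap.lTensor_comp_rTensor _ f g
  exact (LinearMap.congr_fun this t).trans (LinearMap.congr_fun h2 t).symm

include hP0 hπ in
theorem core_surj (z : C1 ⊗[R] G) (hz : LinearMap.rTensor G dC10 z = 0) :
    ∃ (a : C1 ⊗[R] P0) (b : C0 ⊗[R] P1),
      LinearMap.rTensor P0 dC10 a + LinearMap.lTensor C0 dP10 b = 0 ∧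
      LinearMap.lTensor C1 π0 a = z := by
  obtain ⟨a, ha⟩ := LinearMap.lTensor_surjective C1 hπ z
  have hex := lTensor_exact C0 hP0 hπ
  have h1 : LinearMap.lTensor C0 π0 (LinearMap.rTensor P0 dC10 a) = 0 := by
    rw [← rl_comm, ha, hz]
  obtain ⟨b, hb⟩ := (hex _).1 h1
  refine ⟨a, -b, ?_, ha⟩
  rw [map_neg, hb, add_neg_cancel]

include hC hP1 hP0 hπ in
theorem core_inj [Module.Flat R C0] (a : C1 ⊗[R] P0) (b : C0 ⊗[R] P1)
    (hab : LinearMap.rTensor P0 dC10 a + LinearMap.lTensor C0 dP10 b = 0)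
    (c : C2 ⊗[R] G) (hc : LinearMap.rTensor G dC21 c = LinearMap.lTensor C1 π0 a) :
    ∃ (x : C2 ⊗[R] P0) (y : C1 ⊗[R] P1) (z : C0 ⊗[R] P2),
      a = LinearMap.rTensor P0 dC21 x - LinearMap.lTensor C1 dP10 y ∧
      b = LinearMap.rTensor P1 dC10 y + LinearMap.lTensor C0 dP21 z := by
  obtain ⟨x, hx⟩ := LinearMap.lTensor_surjective C2 hπ c
  have hex1 := lTensor_exact C1 hP0 hπ
  have h1 : LinearMap.lTensor C1 π0 (a - LinearMap.rTensor P0 dC21 x) = 0 := by
    rw [map_sub, ← rl_comm, hx, hc, sub_self]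
  obtain ⟨y', hy'⟩ := (hex1 _).1 h1
  have hex0 := Module.Flat.lTensor_exact C0 hP1
  have hCC : LinearMap.rTensor P0 dC10 (LinearMap.rTensor P0 dC21 x) = 0 := by
    rw [← LinearMap.comp_apply, ← LinearMap.rTensor_comp]
    have : dC10 ∘ₗ dC21 = 0 := LinearMap.ext hC
    rw [this, LinearMap.rTensor_zero, LinearMap.zero_apply]
  have ha : a = LinearMap.rTensor P0 dC21 x + LinearMap.lTensor C1 dP10 y' := by
    rw [hy']; abel
  have h2 : LinearMap.lTensor C0 dP10 (b + LinearMap.rTensor P1 dC10 y') = 0 := by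
    rw [map_add, ← rl_comm]
    have h3 : LinearMap.rTensor P0 dC10 a =
        LinearMap.rTensor P0 dC10 (LinearMap.lTensor C1 dP10 y') := by
      rw [ha, map_add, hCC, zero_add]
    rw [← h3, add_comm]
    exact hab
  obtain ⟨z, hz⟩ := (hex0 _).1 h2
  refine ⟨x, -y', z, ?_, ?_⟩
  · rw [map_neg, sub_neg_eq_add]; exact ha
  · rw [map_neg, hz]; abel

end Groth.Agent.Lib.Helper6.TensH1
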