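import Groth.Agent.Lib.Helper6.TensH1.Elem
import Groth.Agent.Lib.Helper6.TensH1.Lin
import Groth.Agent.Lib.Helper6.TensH1.Homology

set_option linter.unusedSectionVars false
set_option linter.unusedVariables false
set_option linter.unusedSimpArgs false
set_option autoImplicit false
set_option linter.style.haveILetI false
set_option maxHeartbeats 400000

noncomputable section

namespace Groth.Agent.Lib.Helper6.TensH1

open CategoryTheory MonoidalCategory HomologicalComplex TensorProduct

universe v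

variable {R : Type v} [CommRing R] (C P : ChainComplex (ModuleCat.{v} R) ℕ) (G : ModuleCat.{v} R)
  [∀ q, Module.Free R (P.X q)]
  (π : P ⟶ (ChainComplex.single₀ (ModuleCat.{v} R)).obj G) [QuasiIso π]

/-- the resolution -/
def pres : ProjectiveResolution G where
  complex := P
  projective := fun n => inferInstance
  π := π

theorem exact_P0 : Function.Exact (P.d 1 0).hom (π.f 0).hom := by
  have := (pres P G π).exact₀
  rw [LinearMap.exact_iff]
  exact this.moduleCat_range_eq_ker.symm

theorem surj_π0 : Function.Surjective (π.f 0).hom := by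
  have : Epi ((pres P G π).π.f 0) := inferInstance
  exact (ModuleCat.epi_iff_surjective _).1 this

include π in
theorem exact_P1 : Function.Exact (P.d 2 1).hom (P.d 1 0).hom := by
  have h := (pres P G π).complex_exactAt_succ 0
  change P.ExactAt 1 at h
  rw [P.exactAt_iff' 2 1 0 (by simp) (by simp)] at h
  rw [LinearMap.exact_iff]
  exact h.moduleCat_range_eq_ker.symm

theorem subsingleton_tensor_single (M : ModuleCat.{v} R) (q : ℕ) :
    Subsingleton (M ⊗ ((ChainComplex.single₀ (ModuleCat.{v} R)).obj G).X (q + 1) :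
      ModuleCat.{v} R) := by
  have hz : Limits.IsZero (((ChainComplex.single₀ (ModuleCat.{v} R)).obj G).X (q + 1)) :=
    HomologicalComplex.isZero_single_obj_X _ _ _ _ (by simp)
  haveI : Subsingleton (((ChainComplex.single₀ (ModuleCat.{v} R)).obj G).X (q + 1)) :=
    ModuleCat.subsingleton_of_isZero hz
  change Subsingleton (M ⊗[R] (((ChainComplex.single₀ (ModuleCat.{v} R)).obj G).X (q + 1)))
  refine ⟨fun x y => ?_⟩
  have h0 : ∀ t : M ⊗[R] (((ChainComplex.single₀ (ModuleCat.{v} R)).obj G).X (q + 1)), t = 0 := by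
    intro t
    induction t using TensorProduct.induction_on with
    | zero => rfl
    | tmul m n => rw [Subsingleton.elim n 0, TensorProduct.tmul_zero]
    | add a b ha hb => rw [ha, hb, add_zero]
  rw [h0 x, h0 y]

theorem main [Module.Free R (C.X 0)] :
    IsIso (HomologicalComplex.homologyMap (C ◁ π) 1) := by
  let G0 := (ChainComplex.single₀ (ModuleCat.{v} R)).obj G
  have hss : ∀ (M : ModuleCat.{v} R) (q : ℕ) (t : (M ⊗ G0.X (q + 1) : ModuleCat.{v} R)), t = 0 :=
    fun M q t => (subsingleton_tensor_single G M q).elim _ _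
  have hP0 := exact_P0 P G π
  have hπ := surj_π0 P G π
  have hP1 := exact_P1 P G π
  have hC : ∀ x, (C.d 1 0).hom ((C.d 2 1).hom x) = 0 := fun x => by
    have := C.d_comp_d 2 1 0
    exact congrArg (fun g => g.hom x) this
  apply isIso_homologyMap_of_elementwise (C ◁ π) 2 1 0 (by simp) (by simp)
  · -- surjectivity
    intro z hz
    obtain ⟨a, b, rfl⟩ := exists_decomp_1 C G0 z
    have hb : b = 0 := hss _ 0 b
    subst hb
    rw [map_zero, add_zero] at hz ⊢
    rw [d_ι10] at hz
    have hz' : LinearMap.rTensor (G0.X 0) (C.d 1 0).hom a = 0 :=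
      ι_injective C G0 0 0 0 rfl (by rw [hz, map_zero])
    obtain ⟨a', b', hab, ha'⟩ := core_surj (C.d 1 0).hom (P.d 1 0).hom (π.f 0).hom hP0 hπ a hz'
    refine ⟨(ι C P 1 0 1 rfl).hom a' + (ι C P 0 1 1 rfl).hom b', ?_, ?_⟩
    · rw [map_add, d_ι10, d_ι01, ← map_add, hab, map_zero]
    · rw [map_add, whiskerLeft_ι, whiskerLeft_ι, ha',
        hss _ 0 (LinearMap.lTensor (C.X 0) (π.f 1).hom b'), map_zero, add_zero]
  · -- injectivity
    intro x hx c' hc'
    obtain ⟨a, b, rfl⟩ := exists_decomp_1 C P x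
    obtain ⟨c0, c1, c2, rfl⟩ := exists_decomp_2 C G0 c'
    have h1 : c1 = 0 := hss _ 0 c1
    have h2 : c2 = 0 := hss _ 1 c2
    subst h1 h2
    have e1 : ((C ◁ π).f 1).hom ((ι C P 1 0 1 rfl).hom a + (ι C P 0 1 1 rfl).hom b) =
        (ι C G0 1 0 1 rfl).hom (LinearMap.lTensor (C.X 1) (π.f 0).hom a) := by
      rw [map_add, whiskerLeft_ι, whiskerLeft_ι,
        hss _ 0 (LinearMap.lTensor (C.X 0) (π.f 1).hom b), map_zero]
      exact add_zero _
    have e2 : ((C ⊗ G0).d 2 1).hom ((ι C G0 2 0 2 rfl).hom c0 + (ι C G0 1 1 2 rfl).hom 0 +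
        (ι C G0 0 2 2 rfl).hom 0) =
        (ι C G0 1 0 1 rfl).hom (LinearMap.rTensor (G0.X 0) (C.d 2 1).hom c0) := by
      rw [map_zero, map_zero]
      have : (ι C G0 2 0 2 rfl).hom c0 + 0 + 0 = (ι C G0 2 0 2 rfl).hom c0 :=
        (add_zero _).trans (add_zero _)
      rw [this, d_ι20]
    rw [e1, e2] at hc'
    have hc'' := ι_injective C G0 1 0 1 rfl hc'
    rw [map_add, d_ι10, d_ι01, ← map_add] at hx
    have hab : LinearMap.rTensor (P.X 0) (C.d 1 0).hom a +
        LinearMap.lTensor (C.X 0) (P.d 1 0).hom b = 0 :=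
      ι_injective C P 0 0 0 rfl (by rw [hx, map_zero])
    obtain ⟨x', y', z', hax, hbx⟩ := core_inj (C.d 2 1).hom (C.d 1 0).hom hC (P.d 2 1).hom
      (P.d 1 0).hom (π.f 0).hom hP1 hP0 hπ a b hab c0 hc''
    refine ⟨(ι C P 2 0 2 rfl).hom x' + (ι C P 1 1 2 rfl).hom y' + (ι C P 0 2 2 rfl).hom z', ?_⟩
    rw [map_add, map_add, d_ι20, d_ι11, d_ι02, hax, hbx, map_sub, map_add]
    abel

end Groth.Agent.Lib.Helper6.TensH1
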